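import Cfsg.Agent.CpAutHe.Seven
import Cfsg.Agent.KFacts.He.Outer
import Cfsg.Agent.Prune
set_option linter.all false
prune_inst 0x7f00000000000000000000000000000000000000000000000000000000000000000000000000000000000000000000000000000000000000000000000000000000000000000000000000000000000000003fffffffffffffffffffffffffffbeffbdffffffff
open scoped Cfsg.Agent.FastGrp

/-!
# S1814, the row of the Held group at `p = 7`, assembled (helper69)
-/

set_option autoImplicit false

namespace Cfsg.Agent.CpAutHe.Row

open Subgroup Cfsg
open Cfsg.Agent.FixBN.HeStab (finite_he)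

/-- automorphisms of odd prime order of the Held group are inner -/
theorem autInner {p : ℕ} (hp : p.Prime) (hp2 : p ≠ 2) : CpAut.AutInner p Cfsg.Spor.He := by
  have hfin : Finite Cfsg.Spor.He := finite_he
  refine CpAut.autInner_of_index ?_ ?_
  · have h1 := Cfsg.Agent.KFacts.He.Outer.index_le_two (K := Cfsg.Spor.He) ⟨MulEquiv.refl _⟩
    rcases h1 with h | h <;> rw [h]
    · exact Nat.coprime_one_left p
    · exact (Nat.coprime_primes Nat.prime_two hp).2 hp2.symm
  · refine ⟨?_⟩
    rintro _ ⟨a, rfl⟩ φ
    refine ⟨φ a, ?_⟩
    ext b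
    simp [MulAut.conj_apply]

end Cfsg.Agent.CpAutHe.Row
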